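import Mathlib.CategoryTheory.CofilteredSystem
import Mathlib.CategoryTheory.Functor.OfSequence
import Mathlib.Algebra.Category.Grp.Abelian
import Mathlib.Algebra.Category.Grp.Limits
import Mathlib.Algebra.Homology.HomologicalComplexLimits
import Mathlib.Algebra.Homology.ShortComplex.Ab
import Mathlib.Algebra.Homology.ShortComplex.HomologicalComplex

/-! Homology of the limit of a tower of complexes of abelian groups. -/

universe u

open CategoryTheory CategoryTheory.Limits Opposite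

namespace Groth.Agent.TowerLib

/-- Transition maps. -/
abbrev tr {C : Type*} [Category C] (T : ℕᵒᵖ ⥤ C) {m n : ℕ} (h : n ≤ m) : T.obj (op m) ⟶ T.obj (op n) :=
  T.map (homOfLE h).op

lemma tr_tr (T : ℕᵒᵖ ⥤ AddCommGrpCat.{u}) {l m n : ℕ} (h : n ≤ m) (h' : m ≤ l) (h'' : n ≤ l)
    (x : T.obj (op l)) : tr T h (tr T h' x) = tr T h'' x := by
  have := ConcreteCategory.congr_hom (T.map_comp (homOfLE h').op (homOfLE h).op) x
  exact this.symm

lemma ml_apply (T : ℕᵒᵖ ⥤ AddCommGrpCat.{u})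
    (hT : (T ⋙ forget AddCommGrpCat).IsMittagLeffler) (n : ℕ) :
    ∃ (m : ℕ) (h : n ≤ m), ∀ (x : T.obj (op m)) (l : ℕ) (hl : n ≤ l),
      ∃ x' : T.obj (op l), tr T hl x' = tr T h x := by
  obtain ⟨⟨m⟩, f, hf⟩ := hT (op n)
  refine ⟨m, leOfHom f.unop, fun x l hl => ?_⟩
  obtain ⟨x', hx'⟩ := hf (homOfLE hl).op ⟨x, rfl⟩
  exact ⟨x', hx'⟩

lemma exists_compatible_of_ml (T : ℕᵒᵖ ⥤ AddCommGrpCat.{u}) (P D : ∀ n, Set (T.obj (op n)))
    (hne : ∀ n, (P n).Nonempty)
    (htr : ∀ {m n : ℕ} (h : n ≤ m) x, x ∈ P m → tr T h x ∈ P n)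
    (hsub : ∀ n x x', x ∈ P n → x' ∈ P n → x - x' ∈ D n)
    (hadd : ∀ n x d, x ∈ P n → d ∈ D n → x + d ∈ P n)
    (hML : ∀ n, ∃ (m : ℕ) (h : n ≤ m), ∀ d ∈ D m, ∀ (l : ℕ) (hl : n ≤ l),
      ∃ d' ∈ D l, tr T hl d' = tr T h d) :
    ∃ x : ∀ n, T.obj (op n), (∀ n, tr T (Nat.le_add_right n 1) (x (n + 1)) = x n) ∧
      ∀ n, x n ∈ P n := by
  choose φ hφ hD using hML
  let Q : ∀ n, Set (T.obj (op n)) := fun n => {x | ∃ y ∈ P (φ n), tr T (hφ n) y = x}
  have hQ : ∀ (n k : ℕ) (hk : φ n ≤ k), ∀ x ∈ Q n, ∃ z ∈ P k, tr T ((hφ n).trans hk) z = x := by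
    rintro n k hk x ⟨y, hy, rfl⟩
    obtain ⟨z, hz⟩ := hne k
    obtain ⟨d', hd', he⟩ := hD n _ (hsub _ y _ hy (htr hk z hz)) k ((hφ n).trans hk)
    refine ⟨z + d', hadd _ _ _ hz hd', ?_⟩
    rw [map_add, he, map_sub, tr_tr T _ _ ((hφ n).trans hk), add_sub_cancel]
  have step : ∀ (n : ℕ) (x : T.obj (op n)), x ∈ Q n →
      ∃ x' ∈ Q (n + 1), tr T (Nat.le_add_right n 1) x' = x := by
    intro n x hx
    let k := max (φ n) (φ (n + 1))
    obtain ⟨z, hz, rfl⟩ := hQ n k (le_max_left _ _) x hx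
    refine ⟨tr T (hφ (n + 1)) (tr T (le_max_right (φ n) _) z), ⟨_, htr _ _ hz, rfl⟩, ?_⟩
    rw [tr_tr T _ _ ((hφ (n + 1)).trans (le_max_right _ _)),
      tr_tr T _ _ ((Nat.le_add_right n 1).trans ((hφ (n + 1)).trans (le_max_right _ _)))]
  choose g hg1 hg2 using step
  let X' : ∀ n, {x : T.obj (op n) // x ∈ Q n} := fun n =>
    Nat.rec ⟨tr T (hφ 0) (hne (φ 0)).some, _, (hne (φ 0)).some_mem, rfl⟩
      (fun n p => ⟨g n p.1 p.2, hg1 n p.1 p.2⟩) n
  refine ⟨fun n => (X' n).1, fun n => hg2 n _ _, fun n => ?_⟩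
  obtain ⟨y, hy, e⟩ := (X' n).2
  show (X' n).1 ∈ P n
  rw [← e]
  exact htr _ _ hy

lemma exists_cone_element (T : ℕᵒᵖ ⥤ AddCommGrpCat.{u}) {c : Cone T} (hc : IsLimit c)
    (y : ∀ n, T.obj (op n))
    (h : ∀ n, tr T (Nat.le_add_right n 1) (y (n + 1)) = y n) :
    ∃ z : c.pt, ∀ n, c.π.app (op n) z = y n := by
  let s : Cone T :=
    { pt := AddCommGrpCat.of (ULift.{u} ℤ)
      π := NatTrans.ofOpSequence
        (fun n => AddCommGrpCat.ofHom ((zmultiplesHom _ (y n)).comp AddEquiv.ulift.toAddMonoidHom))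
        fun n => by
          apply AddCommGrpCat.hom_ext
          refine AddMonoidHom.ext fun m => ?_
          show m.down • y n = T.map (homOfLE (Nat.le_add_right n 1)).op (m.down • y (n + 1))
          rw [map_zsmul, h] }
  refine ⟨hc.lift s ⟨1⟩, fun n => ?_⟩
  exact (ConcreteCategory.congr_hom (hc.fac s (op n)) (ULift.up (1 : ℤ))).trans (one_zsmul _)

section Homology

variable (C : HomologicalComplex AddCommGrpCat.{u} (ComplexShape.up ℤ)) (n : ℤ)

lemma exists_cycle_rep (h : C.homology n) : ∃ w : C.cycles n, C.homologyπ n w = h :=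
  (AddCommGrpCat.epi_iff_surjective (C.homologyπ n)).1 inferInstance h

lemma exists_boundary (w : C.cycles n) (hw : C.homologyπ n w = 0) :
    ∃ y : C.X (n - 1), C.toCycles (n - 1) n y = w :=
  (ShortComplex.ab_exact_iff _).1 (ShortComplex.exact_of_g_is_cokernel
    (ShortComplex.mk _ _ (C.toCycles_comp_homologyπ (n - 1) n))
    (C.homologyIsCokernel (n - 1) n (by simp))) w hw

lemma homologyπ_toCycles (i : ℤ) (y : C.X i) : C.homologyπ n (C.toCycles i n y) = 0 :=
  ConcreteCategory.congr_hom (C.toCycles_comp_homologyπ i n) y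

lemma iCycles_injective : Function.Injective (C.iCycles n) :=
  (AddCommGrpCat.mono_iff_injective (C.iCycles n)).1 inferInstance

lemma exists_cycle (x : C.X n) (j : ℤ) (hj : n + 1 = j) (hx : C.d n j x = 0) :
    ∃ w : C.cycles n, C.iCycles n w = x :=
  (ShortComplex.ab_exact_iff _).1 (ShortComplex.exact_of_f_is_kernel
    (ShortComplex.mk _ _ (C.iCycles_d n j))
    (C.cyclesIsKernel n j ((ComplexShape.up ℤ).next_eq' hj))) x hx

end Homology

variable (K : ℕᵒᵖ ⥤ HomologicalComplex AddCommGrpCat.{u} (ComplexShape.up ℤ))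

/-- The tower in degree `i`. -/
abbrev deg (i : ℤ) : ℕᵒᵖ ⥤ AddCommGrpCat.{u} := K ⋙ HomologicalComplex.eval _ _ i

lemma lim_ext (i : ℤ) (x y : (limit K).X i)
    (h : ∀ m, (limit.π K (op m)).f i x = (limit.π K (op m)).f i y) : x = y :=
  Concrete.isLimit_ext _ (isLimitOfPreserves (HomologicalComplex.eval AddCommGrpCat.{u}
    (ComplexShape.up ℤ) i) (limit.isLimit K)) _ _ fun ⟨m⟩ => h m

lemma exists_lim (i : ℤ) (y : ∀ m, (deg K i).obj (op m))
    (h : ∀ m, tr (deg K i) (Nat.le_add_right m 1) (y (m + 1)) = y m) :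
    ∃ x : (limit K).X i, ∀ m, (limit.π K (op m)).f i x = y m :=
  exists_cone_element (deg K i) (isLimitOfPreserves (HomologicalComplex.eval AddCommGrpCat.{u}
    (ComplexShape.up ℤ) i) (limit.isLimit K)) y h

variable (n : ℤ)

/-- The tower of cycles. -/
noncomputable abbrev cyc : ℕᵒᵖ ⥤ AddCommGrpCat.{u} := K ⋙ HomologicalComplex.cyclesFunctor _ _ n

lemma homologyπ_tr {m l : ℕ} (h : m ≤ l) (w : (K.obj (op l)).cycles n) :
    (K.obj (op m)).homologyπ n (tr (cyc K n) h w) =
      HomologicalComplex.homologyMap (K.map (homOfLE h).op) n ((K.obj (op l)).homologyπ n w) :=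
  (ConcreteCategory.congr_hom
    (HomologicalComplex.homologyπ_naturality (K.map (homOfLE h).op) n) w).symm

lemma toCycles_tr (i : ℤ) {m l : ℕ} (h : m ≤ l) (y : (K.obj (op l)).X i) :
    (K.obj (op m)).toCycles i n ((K.map (homOfLE h).op).f i y) =
      tr (cyc K n) h ((K.obj (op l)).toCycles i n y) := by
  apply iCycles_injective
  refine (ConcreteCategory.congr_hom ((K.obj (op m)).toCycles_i i n) _).trans ?_
  refine Eq.trans ?_ (ConcreteCategory.congr_hom
    (HomologicalComplex.cyclesMap_i (K.map (homOfLE h).op) n).symm _)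
  refine Eq.trans ?_ (congrArg ((K.map (homOfLE h).op).f n)
    (ConcreteCategory.congr_hom ((K.obj (op l)).toCycles_i i n) y).symm)
  exact ConcreteCategory.congr_hom ((K.map (homOfLE h).op).comm i n) y

variable (hX : ((deg K (n - 1)) ⋙ forget AddCommGrpCat).IsMittagLeffler)

include hX in
theorem surjective_post :
    Function.Surjective (limit.post K (HomologicalComplex.homologyFunctor _ _ n)) := by
  intro hlim
  let hm : ∀ m, (K.obj (op m)).homology n := fun m =>
    limit.π (K ⋙ HomologicalComplex.homologyFunctor _ _ n) (op m) hlim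
  have hcompat : ∀ {m l : ℕ} (h : m ≤ l),
      HomologicalComplex.homologyMap (K.map (homOfLE h).op) n (hm l) = hm m := fun {m l} h =>
    ConcreteCategory.congr_hom (limit.w (K ⋙ HomologicalComplex.homologyFunctor _ _ n)
      (homOfLE h).op) hlim
  obtain ⟨w, hw, hwP⟩ := exists_compatible_of_ml (cyc K n)
    (fun m => {w | (K.obj (op m)).homologyπ n w = hm m})
    (fun m => Set.range ((K.obj (op m)).toCycles (n - 1) n))
    (fun m => exists_cycle_rep _ n _)
    (fun {l m} h w hw => (homologyπ_tr K n h w).trans ((congrArg _ hw).trans (hcompat h)))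
    (fun m x x' (hx : (K.obj (op m)).homologyπ n x = hm m)
        (hx' : (K.obj (op m)).homologyπ n x' = hm m) =>
      exists_boundary _ n (x - x') ((map_sub ((K.obj (op m)).homologyπ n).hom x x').trans
        (sub_eq_zero.2 (hx.trans hx'.symm))))
    (fun m x d (hx : (K.obj (op m)).homologyπ n x = hm m) ⟨y, hy⟩ => by
      show (K.obj (op m)).homologyπ n (x + d) = hm m
      subst hy
      exact (map_add ((K.obj (op m)).homologyπ n).hom x _).trans
        ((congrArg₂ (· + ·) hx (homologyπ_toCycles _ n _ y)).trans (add_zero _)))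
    (fun m => by
      obtain ⟨p, hp, hp'⟩ := ml_apply (deg K (n - 1)) hX m
      refine ⟨p, hp, ?_⟩
      rintro _ ⟨y, rfl⟩ l hl
      obtain ⟨y', hy'⟩ := hp' y l hl
      exact ⟨_, ⟨y', rfl⟩, (toCycles_tr K n (n - 1) hl y').symm.trans
        ((congrArg ((K.obj (op m)).toCycles (n - 1) n) hy').trans (toCycles_tr K n (n - 1) hp y))⟩)
  obtain ⟨x, hx⟩ := exists_lim K n (fun m => (K.obj (op m)).iCycles n (w m)) (fun m => by
    refine Eq.trans ?_ (congrArg ((K.obj (op m)).iCycles n) (hw m))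
    exact (ConcreteCategory.congr_hom
      (HomologicalComplex.cyclesMap_i (K.map (homOfLE (Nat.le_add_right m 1)).op) n) (w (m + 1))).symm)
  obtain ⟨w', hw'⟩ := exists_cycle (limit K) n x (n + 1) rfl (lim_ext K (n + 1) _ _ fun m => by
    rw [map_zero]
    refine (ConcreteCategory.congr_hom ((limit.π K (op m)).comm n (n + 1)).symm x).trans ?_
    exact (congrArg ((K.obj (op m)).d n (n + 1)) (hx m)).trans
      (ConcreteCategory.congr_hom ((K.obj (op m)).iCycles_d n (n + 1)) (w m)))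
  refine ⟨(limit K).homologyπ n w', Concrete.limit_ext _ _ _ fun ⟨m⟩ => ?_⟩
  refine (ConcreteCategory.congr_hom
    (limit.post_π K (HomologicalComplex.homologyFunctor _ _ n) (op m)) _).trans ?_
  refine (ConcreteCategory.congr_hom
    (HomologicalComplex.homologyπ_naturality (limit.π K (op m)) n) w').trans ?_
  have hw0 : (K.obj (op m)).homologyπ n (w m) = hm m := hwP m
  refine Eq.trans ?_ hw0
  refine congrArg ((K.obj (op m)).homologyπ n) ?_
  apply iCycles_injective
  exact (ConcreteCategory.congr_hom (HomologicalComplex.cyclesMap_i (limit.π K (op m)) n) w').trans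
    ((congrArg ((limit.π K (op m)).f n) hw').trans (hx m))

theorem injective_post
    (hcyc : ∀ m : ℕ, ∃ (p : ℕ) (h : m ≤ p), ∀ y : (K.obj (op p)).X (n - 1),
      (K.obj (op p)).d (n - 1) n y = 0 → ∀ (l : ℕ) (hl : m ≤ l), ∃ y' : (K.obj (op l)).X (n - 1),
        (K.obj (op l)).d (n - 1) n y' = 0 ∧ tr (deg K (n - 1)) hl y' = tr (deg K (n - 1)) h y) :
    Function.Injective (limit.post K (HomologicalComplex.homologyFunctor _ _ n)) := by
  rw [injective_iff_map_eq_zero]
  intro h0 hh0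
  obtain ⟨w, rfl⟩ := exists_cycle_rep _ n h0
  let z : ∀ m, (K.obj (op m)).X n := fun m => (limit.π K (op m)).f n ((limit K).iCycles n w)
  have hne : ∀ m, ∃ y, (K.obj (op m)).d (n - 1) n y = z m := by
    intro m
    have h1 : (K.obj (op m)).homologyπ n (HomologicalComplex.cyclesMap (limit.π K (op m)) n w) = 0 := by
      refine (ConcreteCategory.congr_hom
        (HomologicalComplex.homologyπ_naturality (limit.π K (op m)) n) w).symm.trans ?_
      refine (ConcreteCategory.congr_hom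
        (limit.post_π K (HomologicalComplex.homologyFunctor _ _ n) (op m)) _).symm.trans ?_
      exact (congrArg (limit.π (K ⋙ HomologicalComplex.homologyFunctor _ _ n) (op m)) hh0).trans
        (map_zero (limit.π (K ⋙ HomologicalComplex.homologyFunctor _ _ n) (op m)).hom)
    obtain ⟨y, hy⟩ := exists_boundary _ n _ h1
    refine ⟨y, ?_⟩
    refine (ConcreteCategory.congr_hom ((K.obj (op m)).toCycles_i (n - 1) n) y).symm.trans ?_
    refine (congrArg ((K.obj (op m)).iCycles n) hy).trans ?_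
    exact ConcreteCategory.congr_hom (HomologicalComplex.cyclesMap_i (limit.π K (op m)) n) w
  obtain ⟨y, hy, hyP⟩ := exists_compatible_of_ml (deg K (n - 1))
    (fun m => {y | (K.obj (op m)).d (n - 1) n y = z m})
    (fun m => {y | (K.obj (op m)).d (n - 1) n y = 0})
    hne
    (fun {l m} h y hy => by
      refine (ConcreteCategory.congr_hom ((K.map (homOfLE h).op).comm (n - 1) n) y).trans ?_
      refine (congrArg ((K.map (homOfLE h).op).f n) hy).trans ?_
      exact ConcreteCategory.congr_hom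
        (congrArg (fun φ => φ.f n) (limit.w K (homOfLE h).op)) ((limit K).iCycles n w))
    (fun m x x' (hx : (K.obj (op m)).d (n - 1) n x = z m)
        (hx' : (K.obj (op m)).d (n - 1) n x' = z m) =>
      (map_sub ((K.obj (op m)).d (n - 1) n).hom x x').trans (sub_eq_zero.2 (hx.trans hx'.symm)))
    (fun m x d (hx : (K.obj (op m)).d (n - 1) n x = z m)
        (hd : (K.obj (op m)).d (n - 1) n d = 0) =>
      (map_add ((K.obj (op m)).d (n - 1) n).hom x d).trans
        ((congrArg₂ (· + ·) hx hd).trans (add_zero _)))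
    (fun m => by
      obtain ⟨p, hp, hp'⟩ := hcyc m
      exact ⟨p, hp, fun d hd l hl => hp' d hd l hl⟩)
  obtain ⟨Y, hY⟩ := exists_lim K (n - 1) y hy
  have e : (limit K).toCycles (n - 1) n Y = w := by
    apply iCycles_injective
    refine (ConcreteCategory.congr_hom ((limit K).toCycles_i (n - 1) n) Y).trans ?_
    refine lim_ext K n _ _ fun m => ?_
    refine (ConcreteCategory.congr_hom ((limit.π K (op m)).comm (n - 1) n) Y).symm.trans ?_
    exact (congrArg ((K.obj (op m)).d (n - 1) n) (hY m)).trans (hyP m)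
  rw [← e]
  exact homologyπ_toCycles _ n _ Y

/-- The cycles form a Mittag-Leffler tower. -/
lemma cycles_ml (q : ℤ) (hW : ((deg K (q - 1)) ⋙ forget AddCommGrpCat).IsMittagLeffler)
    {C₀ : AddCommGrpCat.{u}}
    (c : (Functor.const ℕᵒᵖ).obj C₀ ⟶ K ⋙ HomologicalComplex.homologyFunctor _ _ q)
    (i : ℕ) (s : (K.obj (op i)).homology q ⟶ C₀)
    (hs : ∀ j : ℕ, ∃ (k : ℕ) (hi : i ≤ k) (hj : j ≤ k),
      HomologicalComplex.homologyMap (K.map (homOfLE hj).op) q =
        HomologicalComplex.homologyMap (K.map (homOfLE hi).op) q ≫ s ≫ c.app (op j))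
    (r : ℤ) (hqr : q + 1 = r) (m : ℕ) :
    ∃ (p : ℕ) (h : m ≤ p), ∀ y : (K.obj (op p)).X q, (K.obj (op p)).d q r y = 0 →
      ∀ (l : ℕ) (hl : m ≤ l), ∃ y' : (K.obj (op l)).X q,
        (K.obj (op l)).d q r y' = 0 ∧ tr (deg K q) hl y' = tr (deg K q) h y := by
  obtain ⟨p, hp, hp'⟩ := ml_apply (deg K (q - 1)) hW m
  obtain ⟨k, hik, hpk, hk⟩ := hs p
  refine ⟨k, hp.trans hpk, fun y hy l hl => ?_⟩
  obtain ⟨zc, rfl⟩ := exists_cycle _ q y r hqr hy
  let a : C₀ := s (HomologicalComplex.homologyMap (K.map (homOfLE hik).op) q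
    ((K.obj (op k)).homologyπ q zc))
  let L := max l p
  obtain ⟨w, hw⟩ := exists_cycle_rep (K.obj (op L)) q (c.app (op L) a)
  have h1 : (K.obj (op p)).homologyπ q
      (tr (cyc K q) hpk zc - tr (cyc K q) (le_max_right l p) w) = 0 := by
    refine (map_sub ((K.obj (op p)).homologyπ q).hom _ _).trans (sub_eq_zero.2 ?_)
    refine (homologyπ_tr K q hpk zc).trans ?_
    refine Eq.trans ?_ (homologyπ_tr K q (le_max_right l p) w).symm
    refine (ConcreteCategory.congr_hom hk _).trans ?_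
    refine Eq.trans ?_ (congrArg _ hw).symm
    exact ConcreteCategory.congr_hom (c.naturality (homOfLE (le_max_right l p)).op) a
  obtain ⟨x, hx⟩ := exists_boundary _ q _ h1
  obtain ⟨x', hx'⟩ := hp' x L (hl.trans (le_max_left _ _))
  let w2 : (K.obj (op l)).cycles q :=
    tr (cyc K q) (le_max_left l p) (w + (K.obj (op L)).toCycles (q - 1) q x')
  refine ⟨(K.obj (op l)).iCycles q w2,
    ConcreteCategory.congr_hom ((K.obj (op l)).iCycles_d q r) w2, ?_⟩
  have hi : ∀ {a b : ℕ} (h : a ≤ b) (v : (K.obj (op b)).cycles q),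
      tr (deg K q) h ((K.obj (op b)).iCycles q v) = (K.obj (op a)).iCycles q (tr (cyc K q) h v) :=
    fun h v => (ConcreteCategory.congr_hom
      (HomologicalComplex.cyclesMap_i (K.map (homOfLE h).op) q) v).symm
  refine (hi hl w2).trans (Eq.trans (congrArg _ ?_) (hi (hp.trans hpk) zc).symm)
  have e1 : tr (cyc K q) (hl.trans (le_max_left l p)) ((K.obj (op L)).toCycles (q - 1) q x') =
      tr (cyc K q) hp ((K.obj (op p)).toCycles (q - 1) q x) :=
    (toCycles_tr K q (q - 1) _ x').symm.trans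
      ((congrArg ((K.obj (op m)).toCycles (q - 1) q) hx').trans (toCycles_tr K q (q - 1) hp x))
  refine (tr_tr (cyc K q) hl _ (hl.trans (le_max_left l p)) _).trans ?_
  refine (map_add (tr (cyc K q) (hl.trans (le_max_left l p))).hom w _).trans ?_
  refine (congrArg (tr (cyc K q) (hl.trans (le_max_left l p)) w + ·)
    (e1.trans ((congrArg (tr (cyc K q) hp) hx).trans (map_sub (tr (cyc K q) hp).hom _ _)))).trans ?_
  refine (congrArg₂ (fun u v => tr (cyc K q) (hl.trans (le_max_left l p)) w + (u - v))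
    (tr_tr (cyc K q) hp hpk (hp.trans hpk) zc)
    (tr_tr (cyc K q) hp (le_max_right l p) (hl.trans (le_max_left l p)) w)).trans ?_
  exact add_sub_cancel _ _

theorem isIso_post (h2 : ((deg K (n - 2)) ⋙ forget AddCommGrpCat).IsMittagLeffler)
    (h1 : ((deg K (n - 1)) ⋙ forget AddCommGrpCat).IsMittagLeffler)
    {C₀ : AddCommGrpCat.{u}}
    (c : (Functor.const ℕᵒᵖ).obj C₀ ⟶ K ⋙ HomologicalComplex.homologyFunctor _ _ (n - 1))
    (i : ℕ) (s : (K.obj (op i)).homology (n - 1) ⟶ C₀)
    (hs : ∀ j : ℕ, ∃ (k : ℕ) (hi : i ≤ k) (hj : j ≤ k),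
      HomologicalComplex.homologyMap (K.map (homOfLE hj).op) (n - 1) =
        HomologicalComplex.homologyMap (K.map (homOfLE hi).op) (n - 1) ≫ s ≫ c.app (op j)) :
    IsIso (limit.post K (HomologicalComplex.homologyFunctor _ _ n)) := by
  rw [ConcreteCategory.isIso_iff_bijective]
  refine ⟨injective_post K n (cycles_ml K (n - 1) ?_ c i s hs n (by lia)), surjective_post K n h1⟩
  rw [show n - 1 - 1 = n - 2 by lia]
  exact h2

end Groth.Agent.TowerLib
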