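import Mathlib.CategoryTheory.Abelian.RightDerived
import Mathlib.CategoryTheory.Abelian.FunctorCategory
import Mathlib.CategoryTheory.Functor.OfSequence
import Mathlib.Algebra.Category.Grp.Abelian
import Mathlib.Algebra.Category.Grp.Adjunctions
import Mathlib.Algebra.Category.Grp.Limits
import Mathlib.Algebra.Homology.ShortComplex.Ab

/-! Vanishing of the higher derived limits of towers of abelian groups. -/

universe u

open CategoryTheory CategoryTheory.Limits Opposite

namespace Groth.Agent.TowerLib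

/-- The tower corepresenting evaluation at `n`. -/
noncomputable def rep (n : ℕ) : ℕᵒᵖ ⥤ AddCommGrpCat.{u} :=
  coyoneda.obj (op (op n)) ⋙ uliftFunctor.{u} ⋙ AddCommGrpCat.free

noncomputable def repStep (n : ℕ) : rep.{u} n ⟶ rep (n + 1) :=
  Functor.whiskerRight (coyoneda.map (homOfLE (Nat.le_add_right n 1)).op.op) _

instance (n : ℕ) : Mono (repStep.{u} n) := by
  have : ∀ x, Mono ((repStep.{u} n).app x) := fun x => by
    have : Mono (uliftFunctor.{u}.map
        ((coyoneda.map (homOfLE (Nat.le_add_right n 1)).op.op).app x)) := by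
      rw [mono_iff_injective]
      intro a b _
      exact ULift.ext _ _ (Subsingleton.elim (α := (op (n : ℕ) ⟶ x)) _ _)
    exact inferInstanceAs (Mono (AddCommGrpCat.free.map (uliftFunctor.{u}.map
      ((coyoneda.map (homOfLE (Nat.le_add_right n 1)).op.op).app x))))
  exact NatTrans.mono_of_mono_app _

noncomputable def repHom (T : ℕᵒᵖ ⥤ AddCommGrpCat.{u}) (n : ℕ) (y : T.obj (op n)) : rep n ⟶ T where
  app m := AddCommGrpCat.ofHom (FreeAbelianGroup.lift fun h : ULift.{u} (op n ⟶ m) => T.map h.down y)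
  naturality m m' g := by
    apply AddCommGrpCat.hom_ext
    apply FreeAbelianGroup.lift_ext
    intro (h : ULift.{u} (op n ⟶ m))
    show FreeAbelianGroup.lift (fun h : ULift.{u} (op n ⟶ m') => T.map h.down y)
      (FreeAbelianGroup.map (fun h : ULift.{u} (op n ⟶ m) => ULift.up (h.down ≫ g))
        (FreeAbelianGroup.of h)) =
      T.map g (FreeAbelianGroup.lift (fun h : ULift.{u} (op n ⟶ m) => T.map h.down y)
        (FreeAbelianGroup.of h))
    rw [FreeAbelianGroup.map_of_apply, FreeAbelianGroup.lift_apply_of,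
      FreeAbelianGroup.lift_apply_of]
    show T.map (h.down ≫ g) y = T.map g (T.map h.down y)
    rw [Functor.map_comp]
    rfl

lemma surjective_of_injective (T : ℕᵒᵖ ⥤ AddCommGrpCat.{u}) [Injective T] (n : ℕ) :
    Function.Surjective (T.map (homOfLE (Nat.le_add_right n 1)).op) := by
  intro y
  let φ := Injective.factorThru (repHom T n y) (repStep n)
  let s := (homOfLE (Nat.le_add_right n 1)).op
  refine ⟨φ.app (op (n + 1)) (FreeAbelianGroup.of (ULift.up (𝟙 _))), ?_⟩
  have h1 := congrArg (fun ψ => ψ.app (op n) (FreeAbelianGroup.of (ULift.up (𝟙 _))))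
    (Injective.comp_factorThru (repHom T n y) (repStep n))
  have h2 := ConcreteCategory.congr_hom (φ.naturality s) (FreeAbelianGroup.of (ULift.up (𝟙 _)))
  refine h2.symm.trans ?_
  refine Eq.trans ?_ ((h1.trans ?_))
  · show φ.app (op n) _ = φ.app (op n) _
    congr 1
  · show FreeAbelianGroup.lift (fun h : ULift.{u} (op n ⟶ op n) => T.map h.down y) _ = _
    refine (FreeAbelianGroup.lift_apply_of _ _).trans ?_
    show T.map (𝟙 (op n)) y = y
    simp

lemma exists_lim_element (T : ℕᵒᵖ ⥤ AddCommGrpCat.{u}) (y : ∀ n, T.obj (op n))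
    (h : ∀ n, T.map (homOfLE (Nat.le_add_right n 1)).op (y (n + 1)) = y n) :
    ∃ z : (limit T : AddCommGrpCat.{u}), ∀ n, limit.π T (op n) z = y n := by
  let c : Cone T :=
    { pt := AddCommGrpCat.of (ULift.{u} ℤ)
      π := NatTrans.ofOpSequence
        (fun n => AddCommGrpCat.ofHom ((zmultiplesHom _ (y n)).comp AddEquiv.ulift.toAddMonoidHom))
        fun n => by
          apply AddCommGrpCat.hom_ext
          refine AddMonoidHom.ext fun m => ?_
          show m.down • y n = T.map (homOfLE (Nat.le_add_right n 1)).op (m.down • y (n + 1))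
          rw [map_zsmul, h] }
  refine ⟨limit.lift T c ⟨1⟩, fun n => ?_⟩
  exact (ConcreteCategory.congr_hom (limit.lift_π c (op n)) (ULift.up (1 : ℤ))).trans (one_zsmul _)

/-- A compatible family of boundaries lifts, if the cycles of the next lower degree are boundaries
and the transition maps of the lowest degree are surjective. -/
lemma exists_compatible {W X Y : ℕᵒᵖ ⥤ AddCommGrpCat.{u}} (e : W ⟶ X) (f : X ⟶ Y)
    (w : e ≫ f = 0)
    (hW : ∀ n, Function.Surjective (W.map (homOfLE (Nat.le_add_right n 1)).op))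
    (hex : ∀ n (x : X.obj (op n)), f.app (op n) x = 0 → ∃ t, e.app (op n) t = x)
    (x : ∀ n, Y.obj (op n))
    (hx : ∀ n, Y.map (homOfLE (Nat.le_add_right n 1)).op (x (n + 1)) = x n)
    (hpre : ∀ n, ∃ y, f.app (op n) y = x n) :
    ∃ y : ∀ n, X.obj (op n), (∀ n, X.map (homOfLE (Nat.le_add_right n 1)).op (y (n + 1)) = y n) ∧
      ∀ n, f.app (op n) (y n) = x n := by
  have step : ∀ n (y : X.obj (op n)), f.app (op n) y = x n → ∃ y' : X.obj (op (n + 1)),
      f.app (op (n + 1)) y' = x (n + 1) ∧ X.map (homOfLE (Nat.le_add_right n 1)).op y' = y := by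
    intro n y hy
    obtain ⟨y', hy'⟩ := hpre (n + 1)
    obtain ⟨t, ht⟩ := hex n (X.map (homOfLE (Nat.le_add_right n 1)).op y' - y) (by
      rw [map_sub, NatTrans.naturality_apply, hy', hx, hy, sub_self])
    obtain ⟨t', rfl⟩ := hW n t
    refine ⟨y' - e.app _ t', ?_, ?_⟩
    · rw [map_sub, hy']
      have := ConcreteCategory.congr_hom (NatTrans.congr_app w (op (n + 1))) t'
      rw [show f.app (op (n + 1)) (e.app (op (n + 1)) t') = 0 from this, sub_zero]
    · rw [map_sub, ← NatTrans.naturality_apply, ht, sub_sub_cancel]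
  choose g hg1 hg2 using step
  let Y' : ∀ n, {y : X.obj (op n) // f.app (op n) y = x n} := fun n =>
    Nat.rec ⟨(hpre 0).choose, (hpre 0).choose_spec⟩ (fun n p => ⟨g n p.1 p.2, hg1 n p.1 p.2⟩) n
  exact ⟨fun n => (Y' n).1, fun n => hg2 n _ _, fun n => (Y' n).2⟩

theorem isZero_rightDerived [EnoughInjectives (ℕᵒᵖ ⥤ AddCommGrpCat.{u})]
    [(lim : (ℕᵒᵖ ⥤ AddCommGrpCat.{u}) ⥤ AddCommGrpCat.{u}).Additive]
    (A : ℕᵒᵖ ⥤ AddCommGrpCat.{u}) (k : ℕ) :
    IsZero (((lim : (ℕᵒᵖ ⥤ AddCommGrpCat.{u}) ⥤ AddCommGrpCat.{u}).rightDerived (k + 2)).obj A) := by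
  let J := injectiveResolution A
  refine IsZero.of_iso ?_ (J.isoRightDerivedObj lim (k + 2))
  refine ((HomologicalComplex.exactAt_iff_isZero_homology _ _).1 ?_)
  rw [HomologicalComplex.exactAt_iff' _ (k + 1) (k + 2) (k + 3) (by simp) (by simp),
    ShortComplex.ab_exact_iff]
  intro (z : (limit (J.cocomplex.X (k + 2)) : AddCommGrpCat.{u})) hz
  have hexact : ∀ (i : ℕ) (n : ℕ) (x : (J.cocomplex.X (i + 1)).obj (op n)),
      (J.cocomplex.d (i + 1) (i + 2)).app (op n) x = 0 →
      ∃ t, (J.cocomplex.d i (i + 1)).app (op n) t = x := by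
    intro i n
    have h := ((HomologicalComplex.exactAt_iff' _ i (i + 1) (i + 2) (by simp) (by simp)).1 (J.cocomplex_exactAt_succ i)).map
      ((evaluation ℕᵒᵖ AddCommGrpCat.{u}).obj (op n))
    exact (ShortComplex.ab_exact_iff _).1 h
  obtain ⟨y, hy, hy'⟩ := exists_compatible (J.cocomplex.d k (k + 1)) (J.cocomplex.d (k + 1) (k + 2))
    (J.cocomplex.d_comp_d _ _ _) (surjective_of_injective _) (fun n => hexact k n)
    (fun n => limit.π (J.cocomplex.X (k + 2)) (op n) z)
    (fun n => ConcreteCategory.congr_hom (limit.w (J.cocomplex.X (k + 2))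
      (homOfLE (Nat.le_add_right n 1)).op) z)
    (fun n => hexact (k + 1) n _ (by
      refine ((ConcreteCategory.congr_hom
        (limMap_π (J.cocomplex.d (k + 2) (k + 3)) (op n)) z).symm).trans ?_
      exact (congrArg (limit.π (J.cocomplex.X (k + 3)) (op n)) hz).trans (map_zero _)))
  obtain ⟨w, hw⟩ := exists_lim_element _ y hy
  refine ⟨w, Concrete.limit_ext _ _ _ fun ⟨n⟩ => ?_⟩
  refine (ConcreteCategory.congr_hom (limMap_π (J.cocomplex.d (k + 1) (k + 2)) (op n)) w).trans ?_
  exact (congrArg _ (hw n)).trans (hy' n)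

end Groth.Agent.TowerLib
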