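import Groth.Agent.TowerLib.EssConst
import Groth.Agent.H9Misc.TFactor

/-! Pro-isomorphisms and essentially constant towers in derived categories. -/

universe w v u

open CategoryTheory CategoryTheory.Limits CategoryTheory.Pretriangulated Opposite

namespace Groth.Agent.TowerLib.EssConst

variable {C : Type u} [Category.{v} C] [Preadditive C] [HasZeroObject C] [HasShift C ℤ]
  [∀ n : ℤ, (shiftFunctor C n).Additive] [Pretriangulated C]

omit [Preadditive C] [HasZeroObject C] [∀ n : ℤ, (shiftFunctor C n).Additive] [Pretriangulated C] in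
lemma proIso_shift {X Y : ARSys.PS C} {f : X ⟶ Y} (hf : DerCA.IsProIso f) :
    DerCA.IsProIso (Functor.whiskerRight f (shiftFunctor C (1 : ℤ))) := fun n => by
  obtain ⟨m, h, b, h1, h2⟩ := hf n
  refine ⟨m, h, b⟦(1 : ℤ)⟧', ?_, ?_⟩
  · exact ((shiftFunctor C (1 : ℤ)).map_comp _ _).symm.trans (congrArg _ h1)
  · exact ((shiftFunctor C (1 : ℤ)).map_comp _ _).symm.trans (congrArg _ h2)

omit [HasZeroObject C] [HasShift C ℤ] [∀ n : ℤ, (shiftFunctor C n).Additive] [Pretriangulated C] in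
lemma proIso_inj {X Y : ARSys.PS C} {f : X ⟶ Y} (hf : DerCA.IsProIso f) {n m : ℕ} (h : n ≤ m)
    {T : C} (ψ : Y.obj (op n) ⟶ T) (h0 : f.app (op m) ≫ ARSys.tr Y h ≫ ψ = 0) :
    ∃ (p : ℕ) (hp : n ≤ p), ARSys.tr Y hp ≫ ψ = 0 := by
  obtain ⟨p, hmp, b, -, h2⟩ := hf m
  refine ⟨p, h.trans hmp, ?_⟩
  rw [← tr_comp Y h hmp, ← h2, Category.assoc, Category.assoc, h0, comp_zero]

omit [Preadditive C] [HasZeroObject C] [HasShift C ℤ] in
lemma proIso_surj {C : Type*} [Category C] {X Y : ARSys.PS C} {f : X ⟶ Y} (hf : DerCA.IsProIso f)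
    {n : ℕ} {T : C} (ξ : X.obj (op n) ⟶ T) :
    ∃ (m : ℕ) (hm : n ≤ m) (ψ : Y.obj (op m) ⟶ T), f.app (op m) ≫ ψ = ARSys.tr X hm ≫ ξ := by
  obtain ⟨m, hm, b, h1, -⟩ := hf n
  exact ⟨m, hm, b ≫ ξ, by rw [reassoc_of% h1]⟩

theorem proIso_middle {X₁ X₂ X₃ Y₁ Y₂ Y₃ : ARSys.PS C}
    {aX : X₁ ⟶ X₂} {qX : X₂ ⟶ X₃} {hX : X₃ ⟶ X₁ ⋙ shiftFunctor C (1 : ℤ)}
    {aY : Y₁ ⟶ Y₂} {qY : Y₂ ⟶ Y₃} {hY : Y₃ ⟶ Y₁ ⋙ shiftFunctor C (1 : ℤ)}
    (hTX : ∀ n : ℕ, Triangle.mk (aX.app (op n)) (qX.app (op n)) (hX.app (op n)) ∈ distTriang C)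
    (hTY : ∀ n : ℕ, Triangle.mk (aY.app (op n)) (qY.app (op n)) (hY.app (op n)) ∈ distTriang C)
    {f₁ : X₁ ⟶ Y₁} {f₂ : X₂ ⟶ Y₂} {f₃ : X₃ ⟶ Y₃}
    (c1 : ∀ n, aX.app (op n) ≫ f₂.app (op n) = f₁.app (op n) ≫ aY.app (op n))
    (c2 : ∀ n, qX.app (op n) ≫ f₃.app (op n) = f₂.app (op n) ≫ qY.app (op n))
    (c3 : ∀ n, hX.app (op n) ≫ (f₁.app (op n))⟦(1 : ℤ)⟧' = f₃.app (op n) ≫ hY.app (op n))
    (h₁ : DerCA.IsProIso f₁) (h₃ : DerCA.IsProIso f₃) : DerCA.IsProIso f₂ := by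
  have surj : ∀ (n : ℕ) {T : C} (ξ : X₂.obj (op n) ⟶ T), ∃ (m : ℕ) (hm : n ≤ m)
      (ψ : Y₂.obj (op m) ⟶ T), f₂.app (op m) ≫ ψ = ARSys.tr X₂ hm ≫ ξ := by
    intro n T ξ
    obtain ⟨m, hnm, ψ', hψ'⟩ := proIso_surj h₁ (aX.app (op n) ≫ ξ)
    have e1 : f₃.app (op m) ≫ ARSys.tr Y₃ (le_refl m) ≫ hY.app (op m) ≫ ψ'⟦(1 : ℤ)⟧' = 0 := by
      rw [tr_refl, Category.id_comp, ← reassoc_of% (c3 m), ← Functor.map_comp, hψ',
        tr_nat_assoc aX hnm, Functor.map_comp, ← Category.assoc,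
        show hX.app (op m) ≫ (aX.app (op m))⟦(1 : ℤ)⟧' = 0 from comp_distTriang_mor_zero₃₁ _ (hTX m),
        zero_comp]
    obtain ⟨p, hmp, hp⟩ := proIso_inj h₃ (le_refl m) _ e1
    obtain ⟨ψ, hψ⟩ := exists_neg_factor _ _ _ (hTY p) (ARSys.tr Y₁ hmp ≫ ψ') (by
      have en : ARSys.tr Y₃ hmp ≫ hY.app (op m) =
          hY.app (op p) ≫ (ARSys.tr Y₁ hmp)⟦(1 : ℤ)⟧' := hY.naturality _
      rw [Functor.map_comp, ← reassoc_of% en]
      exact hp)
    obtain ⟨γ, hγ⟩ : ∃ γ : X₃.obj (op p) ⟶ T,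
        ARSys.tr X₂ (hnm.trans hmp) ≫ ξ - f₂.app (op p) ≫ ψ = qX.app (op p) ≫ γ :=
      Triangle.yoneda_exact₂ _ (hTX p) _ (by
        show aX.app (op p) ≫ _ = 0
        rw [Preadditive.comp_sub, reassoc_of% (c1 p), hψ, ← tr_nat_assoc aX (hnm.trans hmp),
          ← tr_nat_assoc f₁ hmp, hψ', tr_comp_assoc, sub_self])
    obtain ⟨r, hpr, δ, hδ⟩ := proIso_surj h₃ γ
    refine ⟨r, (hnm.trans hmp).trans hpr, ARSys.tr Y₂ hpr ≫ ψ + qY.app (op r) ≫ δ, ?_⟩
    rw [Preadditive.comp_add, ← reassoc_of% (c2 r), hδ, ← tr_nat_assoc qX hpr, ← hγ,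
      Preadditive.comp_sub, tr_comp_assoc, tr_nat_assoc f₂ hpr, add_sub_cancel]
  have inj : ∀ (n m : ℕ) (h : n ≤ m) {T : C} (ψ : Y₂.obj (op n) ⟶ T),
      f₂.app (op m) ≫ ARSys.tr Y₂ h ≫ ψ = 0 → ∃ (p : ℕ) (hp : n ≤ p), ARSys.tr Y₂ hp ≫ ψ = 0 := by
    intro n m h T ψ h0
    obtain ⟨p, hmp, hp⟩ := proIso_inj h₁ (le_refl m) (aY.app (op m) ≫ ARSys.tr Y₂ h ≫ ψ) (by
      rw [tr_refl, Category.id_comp, ← reassoc_of% (c1 m), h0, comp_zero])
    rw [tr_nat_assoc aY hmp, tr_comp_assoc] at hp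
    obtain ⟨γ, hγ⟩ : ∃ γ : Y₃.obj (op p) ⟶ T, ARSys.tr Y₂ (h.trans hmp) ≫ ψ = qY.app (op p) ≫ γ :=
      Triangle.yoneda_exact₂ _ (hTY p) _ hp
    obtain ⟨η, hη⟩ : ∃ η : (X₁.obj (op p))⟦(1 : ℤ)⟧ ⟶ T, f₃.app (op p) ≫ γ = hX.app (op p) ≫ η :=
      Triangle.yoneda_exact₃ _ (hTX p) _ (by
        show qX.app (op p) ≫ _ = 0
        rw [reassoc_of% (c2 p), ← hγ, ← tr_comp_assoc Y₂ h hmp, ← tr_nat_assoc f₂ hmp, h0,
          comp_zero])
    obtain ⟨r, hpr, ζ, hζ⟩ := proIso_surj (proIso_shift h₁) (T := T) (n := p) η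
    have hζ' : (f₁.app (op r))⟦(1 : ℤ)⟧' ≫ ζ = (ARSys.tr X₁ hpr)⟦(1 : ℤ)⟧' ≫ η := hζ
    have en : ARSys.tr X₃ hpr ≫ hX.app (op p) =
        hX.app (op r) ≫ (ARSys.tr X₁ hpr)⟦(1 : ℤ)⟧' := hX.naturality _
    obtain ⟨s, hrs, hs⟩ := proIso_inj h₃ (le_refl r) (ARSys.tr Y₃ hpr ≫ γ - hY.app (op r) ≫ ζ) (by
      rw [tr_refl, Category.id_comp, Preadditive.comp_sub, ← tr_nat_assoc f₃ hpr, hη,
        ← reassoc_of% (c3 r), hζ', reassoc_of% en, sub_self])
    refine ⟨s, (h.trans hmp).trans (hpr.trans hrs), ?_⟩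
    rw [← tr_comp Y₂ (h.trans hmp) (hpr.trans hrs), Category.assoc, hγ,
      tr_nat_assoc qY (hpr.trans hrs)]
    rw [Preadditive.comp_sub, sub_eq_zero, tr_comp_assoc] at hs
    have en' : ARSys.tr Y₃ hrs ≫ hY.app (op r) =
        hY.app (op s) ≫ (ARSys.tr Y₁ hrs)⟦(1 : ℤ)⟧' := hY.naturality _
    rw [hs, reassoc_of% en', ← Category.assoc,
      show qY.app (op s) ≫ hY.app (op s) = 0 from comp_distTriang_mor_zero₂₃ _ (hTY s), zero_comp]
  intro n
  obtain ⟨m, hnm, b, hb⟩ := surj n (𝟙 _)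
  rw [Category.comp_id] at hb
  obtain ⟨p, hmp, hp⟩ := inj m m le_rfl (b ≫ f₂.app (op n) - ARSys.tr Y₂ hnm) (by
    rw [tr_refl, Category.id_comp, Preadditive.comp_sub, reassoc_of% hb, tr_nat f₂ hnm, sub_self])
  refine ⟨p, hnm.trans hmp, ARSys.tr Y₂ hmp ≫ b, ?_, ?_⟩
  · rw [← tr_nat_assoc f₂ hmp, hb, tr_comp]
  · rw [Preadditive.comp_sub, sub_eq_zero, tr_comp] at hp
    rw [Category.assoc, hp]

end Groth.Agent.TowerLib.EssConst

namespace Groth.Agent.TowerLib.Amplitude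

open DerivedCategory EssConst

variable {A : Type u} [Category.{v} A] [Abelian A] [HasDerivedCategory.{w} A]

local notation "tS" => (DerivedCategory.TStructure.t (C := A))
local notation "H" => DerivedCategory.homologyFunctor A

omit [HasDerivedCategory.{w} A] in
lemma isEssConstant_of_iso {X Y : ARSys.PS A} (e : X ≅ Y)
    (h : ∃ (B : A) (c : (Functor.const ℕᵒᵖ).obj B ⟶ X), DerCA.IsEssConstant X B c) :
    ∃ (B : A) (c : (Functor.const ℕᵒᵖ).obj B ⟶ Y), DerCA.IsEssConstant Y B c := by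
  obtain ⟨B, c, i, s, hs, hrel⟩ := h
  refine ⟨B, c ≫ e.hom, i, e.inv.app _ ≫ s, by simp [hs], fun j => ?_⟩
  obtain ⟨k, hi, hj, ek⟩ := hrel j
  refine ⟨k, hi, hj, ?_⟩
  rw [← cancel_epi (e.hom.app (op k)), NatTrans.comp_app, ← tr_nat e.hom hj, ek,
    ← tr_nat_assoc e.hom hi]
  simp

omit [HasDerivedCategory.{w} A] in
lemma isEssConstant_of_isZero {X : ARSys.PS A} (h : ∀ n, IsZero (X.obj (op n))) :
    ∃ (B : A) (c : (Functor.const ℕᵒᵖ).obj B ⟶ X), DerCA.IsEssConstant X B c :=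
  ⟨X.obj (op 0), { app := fun x => 0, naturality := fun x y t => by simp }, 0, 0,
    (h 0).eq_of_src _ _, fun j => ⟨j, Nat.zero_le _, le_rfl, (h j).eq_of_src _ _⟩⟩

omit [HasDerivedCategory.{w} A] in
lemma isProIso_of_isZero {X Y : ARSys.PS A} (f : X ⟶ Y) (hX : ∀ n, IsZero (X.obj (op n)))
    (hY : ∀ n, IsZero (Y.obj (op n))) : DerCA.IsProIso f := fun n =>
  ⟨n, le_rfl, 0, (hX n).eq_of_src _ _, (hY n).eq_of_src _ _⟩

omit [HasDerivedCategory.{w} A] in
lemma isProIso_of_arrow_iso {X Y X' Y' : ARSys.PS A} {f : X ⟶ Y} {f' : X' ⟶ Y'} (eX : X ≅ X')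
    (eY : Y ≅ Y') (w : eX.hom ≫ f' = f ≫ eY.hom) (h : DerCA.IsProIso f) : DerCA.IsProIso f' := by
  intro n
  obtain ⟨m, hm, b, h1, h2⟩ := h n
  refine ⟨m, hm, eY.inv.app _ ≫ b ≫ eX.hom.app _, ?_, ?_⟩
  · have w' := NatTrans.congr_app w (op m)
    rw [NatTrans.comp_app, NatTrans.comp_app] at w'
    rw [← cancel_epi (eX.hom.app (op m)), reassoc_of% w', Iso.hom_inv_id_app_assoc,
      reassoc_of% h1, tr_nat eX.hom hm]
  · have w' := NatTrans.congr_app w (op n)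
    rw [NatTrans.comp_app, NatTrans.comp_app] at w'
    rw [Category.assoc, Category.assoc, w', reassoc_of% h2, tr_nat eY.hom hm,
      Iso.inv_hom_id_app_assoc]

lemma isGE_of (a b : ℤ) {X : DerivedCategory A}
    (hX : ∀ i : ℤ, i < a ∨ b < i → IsZero ((H i).obj X)) : X.IsGE a ∧ X.IsLE b :=
  ⟨(isGE_iff X a).2 fun i hi => hX i (.inl hi), (isLE_iff X b).2 fun i hi => hX i (.inr hi)⟩

lemma heart_surjective (m : ℤ) {X Y : DerivedCategory A} [X.IsLE m] [X.IsGE m] [Y.IsLE m] [Y.IsGE m]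
    (φ : (H m).obj X ⟶ (H m).obj Y) : ∃ f : X ⟶ Y, (H m).map f = φ := by
  obtain ⟨P, ⟨eP⟩⟩ := exists_iso_singleFunctor_obj_of_isGE_of_isLE X m
  obtain ⟨Q, ⟨eQ⟩⟩ := exists_iso_singleFunctor_obj_of_isGE_of_isLE Y m
  let e := singleFunctorCompHomologyFunctorIso A m
  let ψ : P ⟶ Q := e.inv.app P ≫ (H m).map eP.inv ≫ φ ≫ (H m).map eQ.hom ≫ e.hom.app Q
  refine ⟨eP.hom ≫ (singleFunctor A m).map ψ ≫ eQ.inv, ?_⟩
  have hn : (H m).map ((singleFunctor A m).map ψ) ≫ e.hom.app Q = e.hom.app P ≫ ψ :=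
    e.hom.naturality ψ
  have hn' : (H m).map ((singleFunctor A m).map ψ) =
      (H m).map eP.inv ≫ φ ≫ (H m).map eQ.hom := by
    rw [← cancel_mono (e.hom.app Q), hn]
    simp [ψ]
  rw [Functor.map_comp, Functor.map_comp, hn']
  simp only [Category.assoc]
  rw [← Functor.map_comp, Iso.hom_inv_id, CategoryTheory.Functor.map_id, Category.comp_id,
    ← Functor.map_comp_assoc, Iso.hom_inv_id, CategoryTheory.Functor.map_id, Category.id_comp]

lemma heart_injective (m : ℤ) {X Y : DerivedCategory A} [X.IsLE m] [X.IsGE m] [Y.IsLE m] [Y.IsGE m]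
    (f g : X ⟶ Y) (h : (H m).map f = (H m).map g) : f = g :=
  sub_eq_zero.1 (Groth.Agent.H9Misc.zero_of_homologyMap_heart m _
    (by rw [Functor.map_sub, h, sub_self]))

lemma lt_spec (m a b : ℤ) (X : DerivedCategory A) (hb : m - 1 = b)
    (hX : ∀ i : ℤ, i < a → IsZero ((H i).obj X)) (i : ℤ) (hi : i < a ∨ b < i) :
    IsZero ((H i).obj (((tS).truncLT m).obj X)) := by
  by_cases him : i < m
  · have := Groth.Agent.H9Misc.isIso_map_truncLTι m i him X
    exact (hX i (by omega)).of_iso (asIso ((H i).map (((tS).truncLTι m).app X)))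
  · have : (((tS).truncLT m).obj X).IsLE (m - 1) := (tS).isLE_truncLT_obj ..
    exact isZero_of_isLE _ (m - 1) i (by omega)

lemma ge_spec (m : ℤ) (X : DerivedCategory A) (hX : ∀ i : ℤ, m < i → IsZero ((H i).obj X))
    (i : ℤ) (hi : i < m ∨ m < i) : IsZero ((H i).obj (((tS).truncGE m).obj X)) := by
  obtain hi | hi := hi
  · have : (((tS).truncGE m).obj X).IsGE m := (tS).isGE_truncGE_obj ..
    exact isZero_of_isGE _ m i hi
  · have := Groth.Agent.H9Misc.isIso_map_truncGEπ m i hi.le X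
    exact (hX i hi).of_iso (asIso ((H i).map (((tS).truncGEπ m).app X))).symm

noncomputable def ltIso (m i : ℤ) (hi : i < m) (X : ARSys.PS (DerivedCategory A)) :
    (X ⋙ (tS).truncLT m) ⋙ H i ≅ X ⋙ H i :=
  NatIso.ofComponents
    (fun x =>
      have := Groth.Agent.H9Misc.isIso_map_truncLTι m i hi (X.obj x)
      asIso ((H i).map (((tS).truncLTι m).app (X.obj x))))
    fun f => ((H i).map_comp _ _).symm.trans
      ((congrArg (H i).map (((tS).truncLTι m).naturality (X.map f))).trans ((H i).map_comp _ _))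

noncomputable def geIso (m i : ℤ) (hi : m ≤ i) (X : ARSys.PS (DerivedCategory A)) :
    X ⋙ H i ≅ (X ⋙ (tS).truncGE m) ⋙ H i :=
  NatIso.ofComponents
    (fun x =>
      have := Groth.Agent.H9Misc.isIso_map_truncGEπ m i hi (X.obj x)
      asIso ((H i).map (((tS).truncGEπ m).app (X.obj x))))
    fun f => ((H i).map_comp _ _).symm.trans
      ((congrArg (H i).map (((tS).truncGEπ m).naturality (X.map f))).trans ((H i).map_comp _ _))

theorem essConstant_heart (m : ℤ) (X : ARSys.PS (DerivedCategory A))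
    (hX : ∀ (n : ℕ) (i : ℤ), i < m ∨ m < i → IsZero ((H i).obj (X.obj (op n))))
    (hH : ∃ (B : A) (c : (Functor.const ℕᵒᵖ).obj B ⟶ X ⋙ H m),
      DerCA.IsEssConstant (X ⋙ H m) B c) :
    ∃ (L : DerivedCategory A) (c : (Functor.const ℕᵒᵖ).obj L ⟶ X),
      DerCA.IsEssConstant X L c := by
  obtain ⟨B, c, i, s, hs, hrel⟩ := hH
  let L := (singleFunctor A m).obj B
  have hL : L.IsGE m ∧ L.IsLE m := ⟨inferInstance, inferInstance⟩
  have hG : ∀ n, (X.obj (op n)).IsGE m ∧ (X.obj (op n)).IsLE m := fun n => isGE_of m m (hX n)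
  let e := (singleFunctorCompHomologyFunctorIso A m).app B
  have sur : ∀ n, ∃ f : L ⟶ X.obj (op n), (H m).map f = e.hom ≫ c.app (op n) := fun n =>
    have := hG n
    have := this.1
    have := (hG n).2
    heart_surjective m _
  choose f hf using sur
  have inj : ∀ {P Q : DerivedCategory A}, P.IsGE m ∧ P.IsLE m → Q.IsGE m ∧ Q.IsLE m →
      ∀ (g g' : P ⟶ Q), (H m).map g = (H m).map g' → g = g' := fun {P Q} hP hQ g g' h =>
    have := hP.1
    have := hP.2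
    have := hQ.1
    have := hQ.2
    heart_injective m g g' h
  obtain ⟨s', hs'⟩ : ∃ s' : X.obj (op i) ⟶ L, (H m).map s' = s ≫ e.inv := by
    have := (hG i).1
    have := (hG i).2
    exact heart_surjective m (s ≫ e.inv)
  refine ⟨L, { app := fun x => f x.unop, naturality := fun x y t => ?_ }, i, s', ?_, fun j => ?_⟩
  · obtain ⟨x⟩ := x
    obtain ⟨y⟩ := y
    refine (Category.id_comp _).trans (inj hL (hG y) _ _ ?_)
    rw [Functor.map_comp, hf, hf, Category.assoc]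
    exact congrArg (e.hom ≫ ·) ((Category.id_comp _).symm.trans (c.naturality t))
  · refine inj hL hL _ _ ?_
    rw [Functor.map_comp, CategoryTheory.Functor.map_id, hf, hs', Category.assoc, reassoc_of% hs]
    exact (congrArg (e.hom ≫ ·) (Category.id_comp _)).trans e.hom_inv_id
  · obtain ⟨k, hi, hj, ek⟩ := hrel j
    refine ⟨k, hi, hj, inj (hG k) (hG j) _ _ ?_⟩
    rw [Functor.map_comp, Functor.map_comp, hs', hf, Category.assoc, e.inv_hom_id_assoc]
    exact ek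

theorem proIso_heart (m : ℤ) (X Y : ARSys.PS (DerivedCategory A)) (f : X ⟶ Y)
    (hX : ∀ (n : ℕ) (i : ℤ), i < m ∨ m < i → IsZero ((H i).obj (X.obj (op n))))
    (hY : ∀ (n : ℕ) (i : ℤ), i < m ∨ m < i → IsZero ((H i).obj (Y.obj (op n))))
    (hH : DerCA.IsProIso (Functor.whiskerRight f (H m))) : DerCA.IsProIso f := by
  intro n
  obtain ⟨p, hp, b, h1, h2⟩ := hH n
  obtain ⟨_, _⟩ := isGE_of m m (hX n)
  obtain ⟨_, _⟩ := isGE_of m m (hY n)
  obtain ⟨_, _⟩ := isGE_of m m (hX p)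
  obtain ⟨_, _⟩ := isGE_of m m (hY p)
  obtain ⟨b', hb'⟩ := heart_surjective m (X := Y.obj (op p)) (Y := X.obj (op n)) b
  refine ⟨p, hp, b', heart_injective m _ _ ?_, heart_injective m _ _ ?_⟩
  · rw [Functor.map_comp, hb']
    exact h1
  · rw [Functor.map_comp, hb']
    exact h2

theorem essConstant (a : ℤ) (d : ℕ) (X : ARSys.PS (DerivedCategory A))
    (hX : ∀ (n : ℕ) (i : ℤ), i < a ∨ a + d < i → IsZero ((H i).obj (X.obj (op n))))
    (hH : ∀ i : ℤ, ∃ (B : A) (c : (Functor.const ℕᵒᵖ).obj B ⟶ X ⋙ H i),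
      DerCA.IsEssConstant (X ⋙ H i) B c) :
    ∃ (L : DerivedCategory A) (c : (Functor.const ℕᵒᵖ).obj L ⟶ X),
      DerCA.IsEssConstant X L c := by
  induction d generalizing X with
  | zero => exact essConstant_heart a X (fun n i hi => hX n i (by omega)) (hH a)
  | succ d ih =>
    let m : ℤ := a + d + 1
    have h1 := ih (X ⋙ (tS).truncLT m)
      (fun n i hi => lt_spec m a (a + d) _ (by omega) (fun i h => hX n i (.inl h)) i hi)
      (fun i => by
        by_cases him : i < m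
        · exact isEssConstant_of_iso (ltIso m i him X).symm (hH i)
        · exact isEssConstant_of_isZero fun n =>
            lt_spec m a (a + d) _ (by omega) (fun i h => hX n i (.inl h)) i (by omega))
    have h3 := essConstant_heart m (X ⋙ (tS).truncGE m)
      (fun n i hi => ge_spec m _ (fun i h => hX n i (by omega)) i hi)
      (isEssConstant_of_iso (geIso m m le_rfl X) (hH m))
    exact exists_middle (X ⋙ (tS).truncLT m) X (X ⋙ (tS).truncGE m)
      (Functor.whiskerLeft X ((tS).truncLTι m)) (Functor.whiskerLeft X ((tS).truncGEπ m))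
      (Functor.whiskerLeft X ((tS).truncGEδLT m))
      (fun n => (tS).triangleLTGE_distinguished m (X.obj (op n))) h1 h3

theorem proIso (a : ℤ) (d : ℕ) (X Y : ARSys.PS (DerivedCategory A)) (f : X ⟶ Y)
    (hX : ∀ (n : ℕ) (i : ℤ), i < a ∨ a + d < i → IsZero ((H i).obj (X.obj (op n))))
    (hY : ∀ (n : ℕ) (i : ℤ), i < a ∨ a + d < i → IsZero ((H i).obj (Y.obj (op n))))
    (hH : ∀ i : ℤ, DerCA.IsProIso (Functor.whiskerRight f (H i))) : DerCA.IsProIso f := by
  induction d generalizing X Y f with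
  | zero =>
    exact proIso_heart a X Y f (fun n i hi => hX n i (by omega)) (fun n i hi => hY n i (by omega))
      (hH a)
  | succ d ih =>
    let m : ℤ := a + d + 1
    have h1 := ih (X ⋙ (tS).truncLT m) (Y ⋙ (tS).truncLT m)
      (Functor.whiskerRight f ((tS).truncLT m))
      (fun n i hi => lt_spec m a (a + d) _ (by omega) (fun i h => hX n i (.inl h)) i hi)
      (fun n i hi => lt_spec m a (a + d) _ (by omega) (fun i h => hY n i (.inl h)) i hi)
      (fun i => by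
        by_cases him : i < m
        · refine isProIso_of_arrow_iso (ltIso m i him X).symm (ltIso m i him Y).symm ?_ (hH i)
          rw [Iso.symm_hom, Iso.symm_hom, Iso.inv_comp_eq, ← Category.assoc, Iso.eq_comp_inv]
          ext x
          exact ((H i).map_comp _ _).symm.trans
            ((congrArg (H i).map (((tS).truncLTι m).naturality (f.app x))).trans ((H i).map_comp _ _))
        · exact isProIso_of_isZero _
            (fun n => lt_spec m a (a + d) _ (by omega) (fun i h => hX n i (.inl h)) i (by omega))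
            (fun n => lt_spec m a (a + d) _ (by omega) (fun i h => hY n i (.inl h)) i (by omega)))
    have h3 := proIso_heart m (X ⋙ (tS).truncGE m) (Y ⋙ (tS).truncGE m)
      (Functor.whiskerRight f ((tS).truncGE m))
      (fun n i hi => ge_spec m _ (fun i h => hX n i (by omega)) i hi)
      (fun n i hi => ge_spec m _ (fun i h => hY n i (by omega)) i hi)
      (by
        refine isProIso_of_arrow_iso (geIso m m le_rfl X) (geIso m m le_rfl Y) ?_ (hH m)
        ext x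
        exact ((H m).map_comp _ _).symm.trans
          ((congrArg (H m).map (((tS).truncGEπ m).naturality (f.app x)).symm).trans ((H m).map_comp _ _)))
    exact proIso_middle (X₂ := X) (Y₂ := Y) (f₁ := Functor.whiskerRight f ((tS).truncLT m)) (f₂ := f)
      (f₃ := Functor.whiskerRight f ((tS).truncGE m))
      (aX := Functor.whiskerLeft X ((tS).truncLTι m)) (qX := Functor.whiskerLeft X ((tS).truncGEπ m))
      (hX := Functor.whiskerLeft X ((tS).truncGEδLT m))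
      (aY := Functor.whiskerLeft Y ((tS).truncLTι m)) (qY := Functor.whiskerLeft Y ((tS).truncGEπ m))
      (hY := Functor.whiskerLeft Y ((tS).truncGEδLT m))
      (fun n => (tS).triangleLTGE_distinguished m (X.obj (op n)))
      (fun n => (tS).triangleLTGE_distinguished m (Y.obj (op n)))
      (fun n => (((tS).truncLTι m).naturality (f.app (op n))).symm)
      (fun n => (((tS).truncGEπ m).naturality (f.app (op n))).symm)
      (fun n => (((tS).truncGEδLT m).naturality (f.app (op n))).symm) h1 h3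

end Groth.Agent.TowerLib.Amplitude
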