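import Groth.Prelude.Def_DerCA
import Mathlib.CategoryTheory.Triangulated.Pretriangulated

/-! Essentially constant towers in triangulated categories. -/

universe v u

open CategoryTheory CategoryTheory.Limits CategoryTheory.Pretriangulated Opposite

namespace Groth.Agent.TowerLib.EssConst

variable {C : Type u} [Category.{v} C]

@[reassoc]
lemma tr_comp (X : ARSys.PS C) {l m n : ℕ} (h : n ≤ m) (h' : m ≤ l) :
    ARSys.tr X h' ≫ ARSys.tr X h = ARSys.tr X (h.trans h') :=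
  (X.map_comp _ _).symm

lemma tr_refl (X : ARSys.PS C) (n : ℕ) : ARSys.tr X (le_refl n) = 𝟙 _ := X.map_id _

@[reassoc]
lemma tr_nat {X Y : ARSys.PS C} (f : X ⟶ Y) {m n : ℕ} (h : n ≤ m) :
    ARSys.tr X h ≫ f.app (op n) = f.app (op m) ≫ ARSys.tr Y h :=
  f.naturality _

@[reassoc]
lemma cone_tr {X : ARSys.PS C} {A : C} (c : (Functor.const ℕᵒᵖ).obj A ⟶ X) {m n : ℕ} (h : n ≤ m) :
    c.app (op m) ≫ ARSys.tr X h = c.app (op n) :=
  (c.naturality (homOfLE h).op).symm.trans (Category.id_comp _)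

lemma exists_rel {X : ARSys.PS C} {A : C} {c : (Functor.const ℕᵒᵖ).obj A ⟶ X} {i : ℕ}
    {s : X.obj (op i) ⟶ A}
    (hs : ∀ j : ℕ, ∃ (k : ℕ) (hi : i ≤ k) (hj : j ≤ k),
      ARSys.tr X hj = ARSys.tr X hi ≫ s ≫ c.app (op j)) (j M : ℕ) :
    ∃ (k : ℕ) (hi : i ≤ k) (hj : j ≤ k) (_ : M ≤ k),
      ARSys.tr X hj = ARSys.tr X hi ≫ s ≫ c.app (op j) := by
  obtain ⟨k, hi, hj, e⟩ := hs j
  refine ⟨max k M, hi.trans (le_max_left _ _), hj.trans (le_max_left _ _), le_max_right _ _, ?_⟩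
  rw [← tr_comp X hi (le_max_left k M), ← tr_comp X hj (le_max_left k M), e, Category.assoc]

variable [Preadditive C] [HasZeroObject C] [HasShift C ℤ]
  [∀ n : ℤ, (shiftFunctor C n).Additive] [Pretriangulated C]

lemma exists_complement {A B : C} (c : A ⟶ B) (r : B ⟶ A) (h : c ≫ r = 𝟙 A) :
    ∃ (Z : C) (g : B ⟶ Z) (σ : Z ⟶ B), c ≫ g = 0 ∧ σ ≫ g = 𝟙 Z ∧ σ ≫ r = 0 ∧
      r ≫ c + g ≫ σ = 𝟙 B := by
  obtain ⟨Z, g, t, hT⟩ := distinguished_cocone_triangle c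
  have hcg : c ≫ g = 0 := comp_distTriang_mor_zero₁₂ _ hT
  have ht : t = 0 := by
    have e : t ≫ c⟦(1 : ℤ)⟧' = 0 := comp_distTriang_mor_zero₃₁ _ hT
    have := congrArg (· ≫ r⟦(1 : ℤ)⟧') e
    rwa [zero_comp, Category.assoc, ← Functor.map_comp, h, CategoryTheory.Functor.map_id,
      Category.comp_id] at this
  obtain ⟨s0, hs0⟩ : ∃ s0 : Z ⟶ B, 𝟙 Z = s0 ≫ g :=
    Triangle.coyoneda_exact₃ _ hT (𝟙 Z) (show 𝟙 Z ≫ t = 0 by rw [ht, comp_zero])
  let σ := s0 - s0 ≫ r ≫ c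
  have h1 : σ ≫ g = 𝟙 Z := by simp [σ, Preadditive.sub_comp, hcg, ← hs0]
  have h2 : σ ≫ r = 0 := by simp [σ, Preadditive.sub_comp, h]
  refine ⟨Z, g, σ, hcg, h1, h2, ?_⟩
  obtain ⟨a, ha⟩ : ∃ a : B ⟶ A, 𝟙 B - r ≫ c - g ≫ σ = a ≫ c :=
    Triangle.coyoneda_exact₂ _ hT _ (show (𝟙 B - r ≫ c - g ≫ σ) ≫ g = 0 by
      simp [Preadditive.sub_comp, hcg, h1])
  have ha0 : a = 0 := by
    have := congrArg (· ≫ r) ha
    simp [Preadditive.sub_comp, h, h2] at this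
    exact this.symm
  rw [ha0, zero_comp, sub_sub, sub_eq_zero] at ha
  exact ha.symm

theorem exists_decomposition (X : ARSys.PS C) (A : C) (c : (Functor.const ℕᵒᵖ).obj A ⟶ X)
    (hX : DerCA.IsEssConstant X A c) :
    ∃ (i : ℕ) (Z : ℕ → C) (e : ∀ j : ℕ, X.obj (op (i + j)) ≅ A ⊞ Z j)
      (z : ∀ j k : ℕ, j ≤ k → (Z k ⟶ Z j)),
      (∀ j : ℕ, c.app (op (i + j)) ≫ (e j).hom = biprod.inl) ∧
      (∀ (j k : ℕ) (hjk : j ≤ k), (e k).inv ≫ ARSys.tr X (Nat.add_le_add_left hjk i) =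
        biprod.map (𝟙 A) (z j k hjk) ≫ (e j).inv) ∧
      (∀ j : ℕ, ∃ (k : ℕ) (hjk : j ≤ k), z j k hjk = 0) := by
  obtain ⟨i, s, hs, hrel⟩ := hX
  let r : ∀ j, X.obj (op (i + j)) ⟶ A := fun j => ARSys.tr X (Nat.le_add_right i j) ≫ s
  have hcr : ∀ j, c.app (op (i + j)) ≫ r j = 𝟙 A := fun j => by
    show c.app (op (i + j)) ≫ ARSys.tr X (Nat.le_add_right i j) ≫ s = 𝟙 A
    rw [cone_tr_assoc]
    exact hs
  choose Z g σ hcg hσg hσr htot using fun j =>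
    exists_complement (c.app (op (i + j))) (r j) (hcr j)
  let e : ∀ j, X.obj (op (i + j)) ≅ A ⊞ Z j := fun j =>
    { hom := biprod.lift (r j) (g j)
      inv := biprod.desc (c.app (op (i + j))) (σ j)
      hom_inv_id := (biprod.lift_desc (f := r j) (g := g j)).trans (htot j)
      inv_hom_id := by
        apply biprod.hom_ext'
        · apply biprod.hom_ext
          · simpa using hcr j
          · simpa using hcg j
        · apply biprod.hom_ext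
          · simpa using hσr j
          · simpa using hσg j }
  refine ⟨i, Z, e, fun j k h => σ k ≫ ARSys.tr X (Nat.add_le_add_left h i) ≫ g j,
    fun j => ?_, fun j k hjk => ?_, fun j => ?_⟩
  · show c.app (op (i + j)) ≫ biprod.lift (r j) (g j) = biprod.inl
    apply biprod.hom_ext
    · simpa using hcr j
    · simpa using hcg j
  · show biprod.desc (c.app (op (i + k))) (σ k) ≫ ARSys.tr X _ = biprod.map _ _ ≫ biprod.desc (c.app (op (i + j))) (σ j)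
    apply biprod.hom_ext'
    · rw [biprod.inl_desc_assoc, cone_tr, biprod.inl_map_assoc, biprod.inl_desc]
      exact (Category.id_comp _).symm
    · rw [biprod.inr_desc_assoc, biprod.inr_map_assoc, biprod.inr_desc, Category.assoc,
        Category.assoc]
      conv_lhs => rw [← Category.comp_id (σ k ≫ ARSys.tr X _), ← htot j]
      rw [Preadditive.comp_add]
      have : (σ k ≫ ARSys.tr X (Nat.add_le_add_left hjk i)) ≫ r j ≫ c.app (op (i + j)) = 0 := by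
        have e1 : ARSys.tr X (Nat.add_le_add_left hjk i) ≫ r j = r k := tr_comp_assoc X _ _ s
        rw [Category.assoc, reassoc_of% e1, reassoc_of% (hσr k), zero_comp]
      rw [this, zero_add, Category.assoc]
  · obtain ⟨k, hi, hj, -, e1⟩ := exists_rel hrel (i + j) (i + j)
    obtain ⟨k', rfl⟩ : ∃ k', k = i + k' := ⟨k - i, by omega⟩
    refine ⟨k', by omega, ?_⟩
    show σ k' ≫ ARSys.tr X _ ≫ g j = 0
    rw [show ARSys.tr X (Nat.add_le_add_left (show j ≤ k' by omega) i) = _ from e1]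
    simp [hcg]

lemma exists_neg_factor {A B C' T : C} (a : A ⟶ B) (q : B ⟶ C') (δ : C' ⟶ A⟦(1 : ℤ)⟧)
    (hT : Triangle.mk a q δ ∈ distTriang C) (α : A ⟶ T) (h : δ ≫ α⟦(1 : ℤ)⟧' = 0) :
    ∃ φ : B ⟶ T, a ≫ φ = α := by
  obtain ⟨φ', hφ'⟩ := Triangle.yoneda_exact₃ _ (rot_of_distTriang _ hT) (α⟦(1 : ℤ)⟧') h
  suffices key : ∀ φ : B ⟶ T, α⟦(1 : ℤ)⟧' = (-a⟦(1 : ℤ)⟧') ≫ φ⟦(1 : ℤ)⟧' → ∃ φ, a ≫ φ = α by
    obtain ⟨φ, rfl⟩ := (shiftFunctor C (1 : ℤ)).map_surjective φ'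
    exact key φ hφ'
  intro φ hφ
  refine ⟨-φ, (shiftFunctor C (1 : ℤ)).map_injective ?_⟩
  rw [hφ, Functor.map_comp, Functor.map_neg, Preadditive.comp_neg, Preadditive.neg_comp]

theorem exists_middle (X Y Z : ARSys.PS C) (f : X ⟶ Y) (g : Y ⟶ Z)
    (h : Z ⟶ X ⋙ shiftFunctor C (1 : ℤ))
    (hT : ∀ n : ℕ, Triangle.mk (f.app (op n)) (g.app (op n)) (h.app (op n)) ∈ distTriang C)
    (hX : ∃ (A : C) (cA : (Functor.const ℕᵒᵖ).obj A ⟶ X), DerCA.IsEssConstant X A cA)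
    (hZ : ∃ (C' : C) (cC : (Functor.const ℕᵒᵖ).obj C' ⟶ Z), DerCA.IsEssConstant Z C' cC) :
    ∃ (B : C) (cB : (Functor.const ℕᵒᵖ).obj B ⟶ Y), DerCA.IsEssConstant Y B cB := by
  obtain ⟨A, cA, iX, sX0, hsA, hrelA⟩ := hX
  obtain ⟨C', cC, iZ, sZ0, hsC, hrelC⟩ := hZ
  let i := max iX iZ
  let sX : ∀ n, i ≤ n → (X.obj (op n) ⟶ A) :=
    fun n hn => ARSys.tr X ((le_max_left _ _).trans hn) ≫ sX0
  let sZ : ∀ n, i ≤ n → (Z.obj (op n) ⟶ C') :=
    fun n hn => ARSys.tr Z ((le_max_right _ _).trans hn) ≫ sZ0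
  have csX : ∀ n hn, cA.app (op n) ≫ sX n hn = 𝟙 A := fun n hn =>
    (cone_tr_assoc cA _ sX0).trans hsA
  have csZ : ∀ n hn, cC.app (op n) ≫ sZ n hn = 𝟙 C' := fun n hn =>
    (cone_tr_assoc cC _ sZ0).trans hsC
  have trX : ∀ {n m : ℕ} (hn : i ≤ n) (hnm : n ≤ m), ARSys.tr X hnm ≫ sX n hn = sX m (hn.trans hnm) :=
    fun _ _ => tr_comp_assoc X _ _ sX0
  have trZ : ∀ {n m : ℕ} (hn : i ≤ n) (hnm : n ≤ m), ARSys.tr Z hnm ≫ sZ n hn = sZ m (hn.trans hnm) :=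
    fun _ _ => tr_comp_assoc Z _ _ sZ0
  have relX : ∀ j M, ∃ (m : ℕ) (hj : j ≤ m) (hi : i ≤ m) (_ : M ≤ m),
      ARSys.tr X hj = sX m hi ≫ cA.app (op j) := fun j M => by
    obtain ⟨m, h1, h2, h3, e⟩ := exists_rel hrelA j (max M i)
    exact ⟨m, h2, (le_max_right _ _).trans h3, (le_max_left _ _).trans h3,
      e.trans (Category.assoc _ _ _).symm⟩
  have relZ : ∀ j M, ∃ (m : ℕ) (hj : j ≤ m) (hi : i ≤ m) (_ : M ≤ m),
      ARSys.tr Z hj = sZ m hi ≫ cC.app (op j) := fun j M => by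
    obtain ⟨m, h1, h2, h3, e⟩ := exists_rel hrelC j (max M i)
    exact ⟨m, h2, (le_max_right _ _).trans h3, (le_max_left _ _).trans h3,
      e.trans (Category.assoc _ _ _).symm⟩
  let δ : C' ⟶ A⟦(1 : ℤ)⟧ := cC.app (op i) ≫ h.app (op i) ≫ (sX i le_rfl)⟦(1 : ℤ)⟧'
  have nat_h : ∀ {n m : ℕ} (hnm : n ≤ m),
      ARSys.tr Z hnm ≫ h.app (op n) = h.app (op m) ≫ (ARSys.tr X hnm)⟦(1 : ℤ)⟧' :=
    fun hnm => h.naturality _
  obtain ⟨k, hik', hik, -, ek⟩ := relZ i i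
  have hδ : h.app (op k) ≫ (sX k hik)⟦(1 : ℤ)⟧' = sZ k hik ≫ δ := by
    rw [show sZ k hik ≫ δ = (sZ k hik ≫ cC.app (op i)) ≫ h.app (op i) ≫ (sX i le_rfl)⟦(1 : ℤ)⟧' from
      (Category.assoc _ _ _).symm, ← ek, reassoc_of% (nat_h hik'), ← Functor.map_comp, trX le_rfl hik']
  obtain ⟨B, a, q, hB⟩ := distinguished_cocone_triangle₂ δ
  obtain ⟨b, hb1, hb2⟩ : ∃ b : Y.obj (op k) ⟶ B,
      f.app (op k) ≫ b = sX k hik ≫ a ∧ g.app (op k) ≫ sZ k hik = b ≫ q :=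
    complete_distinguished_triangle_morphism₂ _ _ (hT k) hB (sX k hik) (sZ k hik) hδ
  let bn : ∀ n, k ≤ n → (Y.obj (op n) ⟶ B) := fun n hn => ARSys.tr Y hn ≫ b
  have trY : ∀ {n m : ℕ} (hn : k ≤ n) (hnm : n ≤ m), ARSys.tr Y hnm ≫ bn n hn = bn m (hn.trans hnm) :=
    fun _ _ => tr_comp_assoc Y _ _ b
  have hfb : ∀ n (hn : k ≤ n), f.app (op n) ≫ bn n hn = sX n (hik.trans hn) ≫ a := fun n hn => by
    show f.app (op n) ≫ ARSys.tr Y hn ≫ b = _
    rw [← tr_nat_assoc f hn b, ← trX hik hn, Category.assoc]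
    exact congrArg (ARSys.tr X hn ≫ ·) hb1
  have hgs : ∀ n (hn : k ≤ n), g.app (op n) ≫ sZ n (hik.trans hn) = bn n hn ≫ q := fun n hn => by
    rw [← trZ hik hn, ← tr_nat_assoc g hn]
    refine Eq.trans ?_ (Category.assoc _ _ _).symm
    exact congrArg (ARSys.tr Y hn ≫ ·) hb2
  have hhd : ∀ n (hn : k ≤ n), h.app (op n) ≫ (sX n (hik.trans hn))⟦(1 : ℤ)⟧' =
      sZ n (hik.trans hn) ≫ δ := fun n hn => by
    rw [← trX hik hn, Functor.map_comp, ← reassoc_of% (nat_h hn), hδ, ← Category.assoc, trZ hik hn]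
  have hinjA : ∀ n (hn : i ≤ n) {T : C} (x : A ⟶ T), sX n hn ≫ x = 0 → x = 0 := fun n hn T x hx => by
    rw [← Category.id_comp x, ← csX n hn, Category.assoc, hx, comp_zero]
  have hinjC : ∀ n (hn : i ≤ n) {T : C} (x : C' ⟶ T), sZ n hn ≫ x = 0 → x = 0 := fun n hn T x hx => by
    rw [← Category.id_comp x, ← csZ n hn, Category.assoc, hx, comp_zero]
  have inj : ∀ n (hn : k ≤ n) {T : C} (φ : B ⟶ T), bn n hn ≫ φ = 0 → φ = 0 := by
    intro n hn T φ hφ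
    obtain ⟨γ, rfl⟩ : ∃ γ : C' ⟶ T, φ = q ≫ γ := by
      refine Triangle.yoneda_exact₂ _ hB φ (hinjA n (hik.trans hn) (a ≫ φ) ?_)
      rw [← Category.assoc, ← hfb n hn, Category.assoc, hφ, comp_zero]
    obtain ⟨η, hη⟩ : ∃ η : (X.obj (op n))⟦(1 : ℤ)⟧ ⟶ T,
        sZ n (hik.trans hn) ≫ γ = h.app (op n) ≫ η :=
      Triangle.yoneda_exact₃ _ (hT n) _ (by
        show g.app (op n) ≫ _ = 0
        rw [reassoc_of% (hgs n hn), hφ])
    obtain ⟨m, hnm, him, -, em⟩ := relX n n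
    let α : A⟦(1 : ℤ)⟧ ⟶ T := (cA.app (op n))⟦(1 : ℤ)⟧' ≫ η
    have e1 : sZ m (hik.trans (hn.trans hnm)) ≫ γ =
        sZ m (hik.trans (hn.trans hnm)) ≫ δ ≫ α := by
      rw [← reassoc_of% (hhd m (hn.trans hnm)), ← trZ (hik.trans hn) hnm, Category.assoc, hη,
        reassoc_of% (nat_h hnm), em, Functor.map_comp, Category.assoc]
    have hγ : γ = δ ≫ α :=
      sub_eq_zero.1 (hinjC m (hik.trans (hn.trans hnm)) _ (by rw [Preadditive.comp_sub, e1, sub_self]))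
    rw [hγ, ← Category.assoc, show q ≫ δ = 0 from comp_distTriang_mor_zero₂₃ _ hB, zero_comp]
  have surj : ∀ n {T : C} (ψ : Y.obj (op n) ⟶ T), ∃ (φ : B ⟶ T) (m : ℕ) (hn : n ≤ m) (hk : k ≤ m),
      bn m hk ≫ φ = ARSys.tr Y hn ≫ ψ := by
    intro n T ψ
    obtain ⟨m, hnm, him, hkm, em⟩ := relX n (max k n)
    have hkm' : k ≤ m := (le_max_left _ _).trans hkm
    let α : A ⟶ T := cA.app (op n) ≫ f.app (op n) ≫ ψ
    have e1 : sX m him ≫ α = f.app (op m) ≫ ARSys.tr Y hnm ≫ ψ := by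
      rw [← tr_nat_assoc f hnm, em]
      simp [sX, α]
    have hdα : δ ≫ α⟦(1 : ℤ)⟧' = 0 := hinjC m him _ (by
      rw [← reassoc_of% (hhd m hkm'), ← Functor.map_comp, e1, Functor.map_comp,
        ← Category.assoc, show h.app (op m) ≫ (f.app (op m))⟦(1 : ℤ)⟧' = 0 from
          comp_distTriang_mor_zero₃₁ _ (hT m), zero_comp])
    obtain ⟨φ, hφ⟩ := exists_neg_factor a q δ hB α hdα
    obtain ⟨γ', hγ'⟩ : ∃ γ' : Z.obj (op m) ⟶ T,
        ARSys.tr Y hnm ≫ ψ - bn m hkm' ≫ φ = g.app (op m) ≫ γ' :=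
      Triangle.yoneda_exact₂ _ (hT m) _ (by
        show f.app (op m) ≫ _ = 0
        rw [Preadditive.comp_sub, reassoc_of% (hfb m hkm'), hφ, e1, sub_self])
    obtain ⟨l, hml, hil, -, el⟩ := relZ m m
    let γ : C' ⟶ T := cC.app (op m) ≫ γ'
    refine ⟨φ + q ≫ γ, l, hnm.trans hml, hkm'.trans hml, ?_⟩
    have e2 : bn l (hkm'.trans hml) ≫ q ≫ γ = ARSys.tr Y (hnm.trans hml) ≫ ψ - bn l (hkm'.trans hml) ≫ φ := by
      rw [← reassoc_of% (hgs l (hkm'.trans hml)), show sZ l (hik.trans (hkm'.trans hml)) ≫ γ =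
        ARSys.tr Z hml ≫ γ' by rw [el]; simp [sZ, γ], ← tr_nat_assoc g hml, ← hγ',
        Preadditive.comp_sub, tr_comp_assoc, ← Category.assoc, trY]
    rw [Preadditive.comp_add, e2, add_sub_cancel]
  choose φ m hnm hkm hφ using fun j => surj j (𝟙 (Y.obj (op j)))
  simp only [Category.comp_id] at hφ
  let cB : (Functor.const ℕᵒᵖ).obj B ⟶ Y :=
    { app := fun x => φ x.unop
      naturality := fun x y t => by
        obtain ⟨x⟩ := x
        obtain ⟨y⟩ := y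
        have hxy : y ≤ x := leOfHom t.unop
        rw [show t = (homOfLE hxy).op from Subsingleton.elim _ _]
        show 𝟙 B ≫ φ y = φ x ≫ ARSys.tr Y hxy
        rw [Category.id_comp]
        refine sub_eq_zero.1 (inj (max (m x) (m y)) ((hkm x).trans (le_max_left _ _)) _ ?_)
        rw [Preadditive.comp_sub, sub_eq_zero]
        conv_lhs => rw [← trY (hkm y) (le_max_right (m x) _), Category.assoc, hφ, tr_comp]
        conv_rhs => rw [← trY (hkm x) (le_max_left _ (m y)), Category.assoc, reassoc_of% (hφ x),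
          tr_comp, tr_comp] }
  refine ⟨B, cB, k, b, ?_, fun j => ⟨m j, hkm j, hnm j, ?_⟩⟩
  · show φ k ≫ b = 𝟙 B
    refine sub_eq_zero.1 (inj (m k) (hkm k) _ ?_)
    rw [Preadditive.comp_sub, Category.comp_id, reassoc_of% (hφ k), sub_eq_zero]
  · exact (hφ j).symm.trans (Category.assoc _ _ _)

end Groth.Agent.TowerLib.EssConst
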